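import Cfsg.Agent.TID.SO.E.Base
import Cfsg.Agent.BHZ.Spor.RowB5
import Cfsg.Agent.H225.AxB
import Cfsg.Agent.H898.Rg920.DickA
import Cfsg.Agent.H541.QBaer
import Cfsg.Agent.PLocal.PConstrained
import Cfsg.Agent.CTwoTab.HN

/-!
# The row `B`, `p = 5` of `KSporOdd` (helper5, project TID)

`b5_zero` follows the second half of the proof of `BHZ.Spor.b_5`.
-/

set_option autoImplicit false
set_option maxRecDepth 100000
set_option maxHeartbeats 400000

namespace Cfsg.Agent.TID.SO.E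

open Cfsg Cfsg.Agent.TID Cfsg.Agent.TID.SO
open Cfsg.Agent.LThreeMB (XX Zx self mk exists_mk mk_eq_mk Zx_le_center)
open Cfsg.Agent.LThreeB (XT mem_XT)
open Subgroup

universe u v

section gen

variable {G : Type u} [Group G] [Finite G] {D : Subgroup G} {p : ℕ} [hp : Fact p.Prime]

/-- `C(v)` is not of characteristic `p` -/
theorem not_constr (h : Sit p D) {y : G} (hy : y ∈ D) (hyp : orderOf y = p) (hc : BHZ.Spor.Constr p y) : False := by
  obtain ⟨U, hU, hn, hr⟩ := hc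
  have hN : C1 y ≤ Nz U := le_Nz fun x hx u hu => hn x (mem_C1.1 hx) u hu
  refine h.not_Q (Q := U ⊓ C1 y) (hU.to_le inf_le_left)
    (inf_le_right.trans (h.loc.ti.cent_le hy (ne_one_of_order hyp)))
    ((Cz_le_C1 hy).trans (le_Nz_inf hN le_normalizer)) fun r hr1 hr2 hrp => hr r (fun d hd => ?_) hrp
  have h1 : Commute y r := mem_Cz.1 hr1 y hy
  refine mem_Cz.1 (H225.AxB.axb hU (D := zpowers y) (zpowers_le.2 (hN (mem_C1.2 rfl))) (fun e he => ⟨1, ?_⟩)
    (hN (Cz_le_C1 hy hr1)) ((Nat.Prime.coprime_iff_not_dvd hp.out).2 hrp).symm (fun e he => ?_)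
    fun w hw hwe => ?_) d hd
  · obtain ⟨i, rfl⟩ := mem_zpowers_iff.1 he
    rw [pow_one, ← zpow_natCast, ← zpow_mul, mul_comm, zpow_mul, zpow_natCast, ← hyp, pow_orderOf_eq_one, one_zpow]
    exact one_mem _
  · obtain ⟨i, rfl⟩ := mem_zpowers_iff.1 he
    rw [(h1.zpow_left i).eq, mul_inv_cancel_right, mul_inv_cancel]
    exact one_mem _
  · exact (mem_Cz.1 hr2 w ⟨hw, mem_C1.2 (hwe y (mem_zpowers y))⟩).symm

/-- `O_p(C(v) / ⟨v⟩) ≠ 1` -/
theorem false_of_hom (h : Loc p D) {v : G} (hv : v ∈ D) (hvp : orderOf v = p) {P : Type v} [Group P]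
    (f : C1 v →* P) (hf : Function.Surjective f) (hP : pCore p P = ⊥) (hk : ∀ c, f c = 1 → (c : G) ∈ zpowers v) :
    False := by
  refine false_of_core h.pgrp h.ti h.rk hv hvp fun c hc _ => hk c ?_
  have h3 := PLocal.PConstrained.map_pCore_le (p := p) f hf ⟨c, hc, rfl⟩
  rwa [hP, mem_bot] at h3

/-- `C(x) ∩ C(t) → C(τ) / ⟨τ⟩`, where `τ` is the image of `t` in `C(x) / ⟨x⟩` -/
theorem exists_hom_XT {x t : G} (hx : x ^ 5 = 1) (ht : t * t = 1) (hxt : x * t = t * x) :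
    ∃ F : ↥(XT x t) →* XX (mk x hxt.symm), Function.Surjective F ∧ F ⟨t, mem_XT.2 ⟨hxt.symm, rfl⟩⟩ = 1 ∧
      ∀ c, F c = 1 → (∃ i : ℤ, x ^ i = (c : G)) ∨ ∃ i : ℤ, t * x ^ i = (c : G) := by
  let m1 : ↥(XT x t) →* XX x := (QuotientGroup.mk' (Zx x)).comp (inclusion inf_le_left)
  have hm1 : ∀ c : ↥(XT x t), m1 c = mk x (mem_XT.1 c.2).1 := fun c => rfl
  let t' : ↥(XT x t) := ⟨t, mem_XT.2 ⟨hxt.symm, rfl⟩⟩
  have hr : ∀ c : ↥(XT x t), m1 c ∈ centralizer ({mk x hxt.symm} : Set (XX x)) := fun c => by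
    have h1 : c * t' = t' * c := Subtype.ext (mem_XT.1 c.2).2
    have h2 := congrArg m1 h1
    rw [map_mul, map_mul] at h2
    exact mem_centralizer_singleton_iff.2 h2
  refine ⟨(QuotientGroup.mk' _).comp (m1.codRestrict _ hr), fun w => ?_, ?_, fun c hc => ?_⟩
  · obtain ⟨⟨a, ha⟩, rfl⟩ := QuotientGroup.mk_surjective w
    obtain ⟨c, hc, rfl⟩ := exists_mk a
    exact ⟨⟨c, mem_XT.2 ⟨hc, H182.RG.BFive.comm_of_mk hx ht hxt hc (mem_centralizer_singleton_iff.1 ha)⟩⟩, rfl⟩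
  · exact (QuotientGroup.eq_one_iff (N := Zx (mk x hxt.symm)) _).2 (mem_zpowers _)
  · obtain ⟨i, hi⟩ := mem_zpowers_iff.1 ((QuotientGroup.eq_one_iff (N := Zx (mk x hxt.symm)) _).1 hc)
    have h1 : m1 t' ^ i = m1 c := congrArg Subtype.val hi
    have h2 : m1 t' ^ (2 : ℤ) = 1 := by
      rw [zpow_two, ← map_mul, show t' * t' = 1 from Subtype.ext ht, map_one]
    obtain ⟨k, rfl | rfl⟩ := Int.even_or_odd' i
    · rw [zpow_mul, h2, one_zpow] at h1
      exact Or.inl ((LThreeMB.mk_eq_one (mem_XT.1 c.2).1).1 h1.symm)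
    · rw [zpow_add, zpow_mul, h2, one_zpow, one_mul, zpow_one] at h1
      exact Or.inr ((mk_eq_mk hxt.symm (mem_XT.1 c.2).1).1 h1)

/-- `O_5(C(τ) / ⟨τ⟩) = 1` for an involution `τ` of `HN` -/
theorem core_hn (h : Spor.IsoHN G) {t : G} (ht : orderOf t = 2) : pCore 5 (XX t) = ⊥ := by
  have h5 : Fact (Nat.Prime 5) := ⟨Nat.prime_five⟩
  have h2 : Fact (Nat.Prime 2) := ⟨Nat.prime_two⟩
  obtain ⟨e⟩ := h
  have h1 := (CTwoTab.HN.compC2.of_equiv e.symm).bal t ht
  rw [centralizerPPrimeCore, map_eq_bot_iff_of_injective _ Subtype.val_injective] at h1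
  refine H898.Rg920.pCore_eq_bot_of_surj (QuotientGroup.mk' (Zx t)) (QuotientGroup.mk'_surjective _) ?_ ?_
  · rw [QuotientGroup.ker_mk']
    exact Zx_le_center t
  · exact eq_bot_iff.2 (h1 ▸ H541.QBaer.pCore_le_pPrimeCore (by norm_num))

end gen

section model

open Cfsg.Agent.MonsterX Cfsg.Agent.MonsterX.InstData Cfsg.Agent.MonsterX.MainPack Cfsg.Agent.MonsterU
open Cfsg.Agent.MonsterP Cfsg.Agent.MonsterN
open Cfsg.Agent.LThreeMB (KChart.Cent KChart.pi KChart.chart fr)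
open Cfsg.Agent.BHZ.Spor

/-- type 5B -/
theorem b5_zero {S : Type v} [Group S] {t : ↥InstData.M.G} (ht : LThreeB.Row.TA t)
    (q : ↥(centralizer ({t} : Set ↥InstData.M.G)) →* S) (hq : Function.Surjective q)
    (hk1 : ∀ c, q c = 1 → (c : ↥InstData.M.G) = 1 ∨ (c : ↥InstData.M.G) = t)
    (hk2 : ∀ c : ↥(centralizer ({t} : Set ↥InstData.M.G)), (c : ↥InstData.M.G) = t → q c = 1)
    {a : ↥(centralizer ({t} : Set ↥InstData.M.G))} (hqa : q a ≠ 1)
    {x : centralizer ({KDone.K.z} : Set ↥InstData.M.G)} {k₁ : ↥InstData.M.G} {i₁ : ℕ} (hx : orderOf x = 5)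
    (hfr : fr (KChart.pi MFive.Row.hc x) = 1) (hk₁ : k₁ * (a : ↥InstData.M.G) * k₁⁻¹ = (x : ↥InstData.M.G) ^ i₁) :
    Constr 5 (q a) := by
  have h5 : Fact (Nat.Prime 5) := ⟨Nat.prime_five⟩
  have hfin : Finite ↥InstData.M.G := MThirteen.Row.finite
  have hto := MThirteen.Row.ta_order ht
  have ha1 : (a : ↥InstData.M.G) ≠ 1 := fun h0 => hqa (by rw [show a = 1 from Subtype.ext h0, map_one])
  have ht1 : t ≠ 1 := fun h0 => by
    rw [h0, orderOf_one] at hto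
    norm_num at hto
  have htt : t * t = 1 := by rw [← pow_two, ← hto, pow_orderOf_eq_one]
  have hJ : CpAutBFive.Closed.HJ := fun _ hs h => Cfsg.Agent.MFive.JTwo.isoJ2 hs h
  have h := KChart.chart KDone.lft Cfsg.Agent.MFive.Row.hc
  obtain ⟨x₀, k, hx₀, hfr₀, hk, hkk⟩ := BpSpor.M5.exists_k BpSpor.M5.hA
  have hJx := hJ _ (Cfsg.Agent.MFive.orderOf_pi h Nat.prime_five (by decide) hx₀) hfr₀
  have hD := BpSpor.M5.dvd_zero h BpSpor.M5.trNe (CpAutBFive.Closed.coFive hJ) CpAutBFive.Closed.hnEight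
    BpSpor.M5.hasPair (CoFive.Ranks.wclassOf _) CoFive.Sylow.exists_four hx₀ hfr₀
  obtain ⟨T, hTT, hT1, hTn, R, hR, hRp, hRs, hV⟩ := H393.BF.zero h BpSpor.M5.trNe BpSpor.M5.hasPair
    (CoFive.Ranks.wclassOf _) hx₀ hfr₀ hJx hD hk hkk
  obtain ⟨T₀, hT₀⟩ := B5.conj_inv h BpSpor.M5.trNe BpSpor.M5.hasPair (CoFive.Ranks.wclassOf _) hx₀ hfr₀ hJx hk hkk
  obtain ⟨b, i₂, hb⟩ := B5.conj_zero hx hx₀ hfr hfr₀
  obtain ⟨c, i, hc⟩ : ∃ (c : ↥InstData.M.G) (i : ℕ), c * a * c⁻¹ = (x₀ : ↥InstData.M.G) ^ i :=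
    ⟨b * k₁, i₂ * i₁, by rw [pow_mul, ← hb, conj_pow, ← hk₁]; group⟩
  have hx5 : (x₀ : ↥InstData.M.G) ^ 5 = 1 := by
    rw [← hx₀, ← Subgroup.orderOf_coe, pow_orderOf_eq_one]
  have hxi : (x₀ : ↥InstData.M.G) ∈ zpowers ((x₀ : ↥InstData.M.G) ^ i) :=
    B5.mem_zpowers_of_prime Nat.prime_five hx5 (by rw [← hc]; exact fun h0 => ha1 (conj_eq_one_iff.1 h0))
  have hat : Commute (a : ↥InstData.M.G) t := mem_centralizer_singleton_iff.1 a.2
  have h3 : Commute (x₀ : ↥InstData.M.G) (c * t * c⁻¹) := by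
    refine commute_of_mem_zpowers ?_ hxi
    rw [← hc]
    exact hat.map (MulAut.conj c)
  have h4 := (hT₀ T hTT hT1 hTn).symm.trans (hT₀ ⟨c * t * c⁻¹, mem_centralizer_singleton_iff.2 h3.symm⟩
    (Subtype.ext (by
      change c * t * c⁻¹ * (c * t * c⁻¹) = 1
      rw [conj_mul, htt, mul_one, mul_inv_cancel]))
    (fun h0 => ht1 (conj_eq_one_iff.1 (congrArg Subtype.val h0)))
    fun d hd => MThirteen.Row.ta_ne ht (d * c) (by rw [← hd]; group))
  obtain ⟨d, hd⟩ := isConj_iff.1 h4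
  have hd' : (d : ↥InstData.M.G) * T * (d : ↥InstData.M.G)⁻¹ = c * t * c⁻¹ := congrArg Subtype.val hd
  have hdx : (d : ↥InstData.M.G) * x₀ = x₀ * d := mem_centralizer_singleton_iff.1 d.2
  obtain ⟨g, hg, hgx⟩ : ∃ g : ↥InstData.M.G, g * T * g⁻¹ = t ∧ g * (x₀ : ↥InstData.M.G) ^ i * g⁻¹ = a := by
    refine ⟨c⁻¹ * d, ?_, ?_⟩
    · calc c⁻¹ * d * T * (c⁻¹ * d)⁻¹ = c⁻¹ * ((d : ↥InstData.M.G) * T * (d : ↥InstData.M.G)⁻¹) * c := by group
        _ = t := by rw [hd']; group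
    · calc c⁻¹ * d * (x₀ : ↥InstData.M.G) ^ i * (c⁻¹ * d)⁻¹
          = c⁻¹ * ((d : ↥InstData.M.G) * (x₀ : ↥InstData.M.G) ^ i * (d : ↥InstData.M.G)⁻¹) * c := by group
        _ = a := by
          rw [((show Commute (d : ↥InstData.M.G) x₀ from hdx).pow_right i).eq, mul_inv_cancel_right, ← hc]; group
  have hmem : ∀ c : ↥(centralizer ({(T : ↥InstData.M.G)} : Set ↥InstData.M.G)), g * (c : ↥InstData.M.G) * g⁻¹ ∈
      centralizer ({t} : Set ↥InstData.M.G) := fun c => by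
    have h1 : Commute (c : ↥InstData.M.G) T := mem_centralizer_singleton_iff.1 c.2
    rw [mem_centralizer_singleton_iff, ← hg]
    exact h1.map (MulAut.conj g)
  let j : ↥(centralizer ({(T : ↥InstData.M.G)} : Set ↥InstData.M.G)) →* ↥(centralizer ({t} : Set ↥InstData.M.G)) :=
    ((MulAut.conj g).toMonoidHom.comp (Subgroup.subtype _)).codRestrict _ hmem
  have hj : ∀ c, (j c : ↥InstData.M.G) = g * c * g⁻¹ := fun c => rfl
  let x' : ↥(centralizer ({(T : ↥InstData.M.G)} : Set ↥InstData.M.G)) :=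
    ⟨x₀, mem_centralizer_singleton_iff.2 (mem_centralizer_singleton_iff.1 T.2).symm⟩
  have h6 := B5.constr_quot (by decide) (x := (x₀ : ↥InstData.M.G)) (by rw [Subgroup.orderOf_coe, hx₀]) hTT hT1
    (q.comp j) (fun w => by
      obtain ⟨c, rfl⟩ := hq w
      refine ⟨⟨g⁻¹ * c * g, ?_⟩, congrArg q (Subtype.ext (by rw [hj]; group))⟩
      have h1 : (c : ↥InstData.M.G) * t = t * c := mem_centralizer_singleton_iff.1 c.2
      refine mem_centralizer_singleton_iff.2 ?_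
      calc g⁻¹ * (c : ↥InstData.M.G) * g * T = g⁻¹ * (c * (g * T * g⁻¹)) * g := by group
        _ = g⁻¹ * ((g * T * g⁻¹) * c) * g := by rw [hg, h1]
        _ = _ := by group)
    (fun c hc => by
      refine (hk1 _ hc).imp (fun h1 => conj_eq_one_iff.1 h1) fun h1 => ?_
      rw [hj] at h1
      exact mul_left_cancel (mul_right_cancel (h1.trans hg.symm)))
    (fun c hc => hk2 _ (by rw [hj, hc, hg]))
    hR hRp hRs hV x' rfl
  refine h6.of_zpowers ?_
  have h7 : q a = (q.comp j) x' ^ i := by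
    rw [← map_pow]
    exact congrArg q (Subtype.ext (by rw [hj, ← hgx]; rfl))
  rw [h7]
  refine B5.mem_zpowers_of_prime Nat.prime_five ?_ ?_
  · rw [← map_pow, show x' ^ 5 = 1 from Subtype.ext hx5, map_one]
  · rwa [← h7]

theorem b5_model {S : Type} [Group S] (hB : Spor.IsoB S) : NoSit 5 S := by
  have h5 : Fact (Nat.Prime 5) := ⟨Nat.prime_five⟩
  have hfB : Finite S := Nat.finite_of_card_ne_zero (by rw [NotCT.Orders.b hB]; norm_num)
  have hfin : Finite ↥InstData.M.G := MThirteen.Row.finite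
  intro D hD
  obtain ⟨y, hy, hyp, -⟩ := exists_fix hD.loc.pgrp hD.loc.pgrp hD.loc.rk.ne_bot le_normalizer
  obtain ⟨t, ht, h2, e, a, ha, hay, hcase⟩ := H182.RG.BFive.cases_five hB hyp
  have hto := MThirteen.Row.ta_order ht
  have ht1 : t ≠ 1 := fun h0 => by
    rw [h0, orderOf_one] at hto
    norm_num at hto
  have htt : t * t = 1 := by rw [← pow_two, ← hto, pow_orderOf_eq_one]
  rcases hcase with hH | ⟨x, k₁, i₁, hx, hfr, hk₁⟩
  · have haM : orderOf (a : ↥InstData.M.G) = 5 := by rw [Subgroup.orderOf_coe, ha]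
    have ha5 : (a : ↥InstData.M.G) ^ 5 = 1 := by rw [← haM, pow_orderOf_eq_one]
    have hat : (a : ↥InstData.M.G) * t = t * a := mem_centralizer_singleton_iff.1 a.2
    obtain ⟨F, hF1, hF2, hF3⟩ := exists_hom_XT ha5 htt hat
    obtain ⟨f, -, hf2, hf3⟩ := H182.RG.BFive.exists_hom_cover hto h2 e Nat.prime_five (by norm_num) ha F hF2 hF3
    subst hay
    have hτ : orderOf (mk (a : ↥InstData.M.G) hat.symm) = 2 := by
      have : Fact (Nat.Prime 2) := ⟨Nat.prime_two⟩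
      refine orderOf_eq_prime ?_ fun h1 => ?_
      · rw [pow_two]
        exact (LThreeMB.mk_eq_one (g := t * t) (by rw [htt, one_mul, mul_one])).2 ⟨0, by rw [zpow_zero, htt]⟩
      · obtain ⟨i, hi⟩ := (LThreeMB.mk_eq_one _).1 h1
        have h3 : t ^ 5 = 1 := by
          rw [← hi, ← zpow_natCast, ← zpow_mul, mul_comm, zpow_mul, zpow_natCast, ha5, one_zpow]
        have h4 := orderOf_dvd_of_pow_eq_one h3
        rw [hto] at h4
        norm_num at h4
    refine false_of_hom hD.loc hy hyp f (fun w => ?_) (core_hn hH hτ) hf3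
    obtain ⟨c, rfl⟩ := hF1 w
    exact hf2 c
  · let q : ↥(centralizer ({t} : Set ↥InstData.M.G)) →* S := e.toMonoidHom.comp (QuotientGroup.mk' _)
    have hq : Function.Surjective q := e.surjective.comp (QuotientGroup.mk'_surjective _)
    have hqk : ∀ c, q c = 1 ↔ c ∈ center ↥(centralizer ({t} : Set ↥InstData.M.G)) := fun c => by
      change e (QuotientGroup.mk c) = 1 ↔ _
      rw [map_eq_one_iff _ e.injective, QuotientGroup.eq_one_iff]
    have hqa : q a = y := hay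
    have htc : (⟨t, mem_centralizer_singleton_iff.2 rfl⟩ : ↥(centralizer ({t} : Set ↥InstData.M.G))) ∈
        center ↥(centralizer ({t} : Set ↥InstData.M.G)) :=
      mem_center_iff.2 fun g => Subtype.ext (mem_centralizer_singleton_iff.1 g.2)
    have hcen : ∀ c ∈ center ↥(centralizer ({t} : Set ↥InstData.M.G)),
        (c : ↥InstData.M.G) = 1 ∨ (c : ↥InstData.M.G) = t := fun c hc => by
      obtain ⟨w, -, hw⟩ := (Nat.card_eq_two_iff' (1 : center ↥(centralizer ({t} : Set ↥InstData.M.G)))).1 h2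
      by_cases h0 : (c : ↥InstData.M.G) = 1
      · exact Or.inl h0
      · have h3 := (hw ⟨c, hc⟩ fun h4 => h0 (congrArg (fun v => ((v : center _) : ↥InstData.M.G)) h4)).trans
          (hw ⟨_, htc⟩ fun h4 => ht1 (congrArg (fun v => ((v : center _) : ↥InstData.M.G)) h4)).symm
        exact Or.inr (congrArg (fun v => ((v : center _) : ↥InstData.M.G)) h3)
    refine not_constr hD hy hyp ?_
    rw [← hqa]
    exact b5_zero ht q hq (fun c hc => hcen c ((hqk c).1 hc))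
      (fun c hc => (hqk c).2 (by rwa [show c = ⟨t, mem_centralizer_singleton_iff.2 rfl⟩ from Subtype.ext hc]))
      (by rw [hqa]; exact ne_one_of_order hyp) hx hfr hk₁

end model

/-- **The row `B`, `p = 5`.** -/
theorem b_5 : Row.{u} 5 (fun S _ => Spor.IsoB S) := by
  intro G _ _ h
  obtain ⟨e⟩ := h
  exact NoSit.congr e (b5_model ⟨MulEquiv.refl _⟩)

end Cfsg.Agent.TID.SO.E
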