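import Cfsg.Agent.TID.SO.E.Base
import Cfsg.Agent.H604.RB.ThreeB
import Cfsg.Agent.H604.RB.Three
import Cfsg.Agent.Fischer.Fi22Order

/-!
# The row `B`, `p = 3` of `KSporOdd` (helper5, project TID)
-/

set_option autoImplicit false
set_option maxRecDepth 100000
set_option maxHeartbeats 400000

namespace Cfsg.Agent.TID.SO.E

open Cfsg Subgroup Cfsg.Agent.TID Cfsg.Agent.TID.SO

universe u

variable {G : Type u} [Group G] [Finite G] {D : Subgroup G}

/-- `C(v)` normalizes a `p`-group with centralizer `⟨v⟩` -/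
theorem not_qframe {p : ℕ} [Fact p.Prime] (h : Sit p D) {v : G} (hv : v ∈ D) (hvp : orderOf v = p)
    (hQ : H604.RB.QFrame.QFrame p v) : False := by
  obtain ⟨Q, -, h1, h2, h3, h4⟩ := hQ
  have h5 : Q ≤ C1 v := fun u hu => mem_C1.2 (h3 u hu).symm
  refine h.not_Q h1 (h5.trans (h.loc.ti.cent_le hv (ne_one_of_order hvp)))
    (fun c hc => h2 c (mem_Cz.1 hc v hv).symm) fun y _ hy hyp => ?_
  obtain ⟨i, rfl⟩ := mem_zpowers_iff.1 (h4 y (mem_Cz.1 hy))
  refine eq_one_of_pow (k := 1) ?_ hyp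
  rw [pow_one, ← zpow_natCast, ← zpow_mul, mul_comm, zpow_mul, zpow_natCast, ← hvp, pow_orderOf_eq_one, one_zpow]

/-- `C(v) = ⟨v⟩ × Fi22.2` -/
theorem not_fiFrame [Fact (Nat.Prime 3)] (h : Loc 3 D) {v : G} (hv : v ∈ D) (hvp : orderOf v = 3)
    (F : H480.Ore.FiFrame v) : False := by
  obtain ⟨w, hw, hwp, hc, hne⟩ := exists_snd h.pgrp h.rk hv hvp
  have hw3 : w ^ 3 = 1 := by rw [← hwp, pow_orderOf_eq_one]
  have hwS : w ∈ F.S := by
    by_contra h1
    have h2 := F.cover' hc.symm hc.symm h1 h1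
    refine h1 ?_
    have h3 : w = (w * w) * (w * w) := by
      calc w = w ^ 3 * w := by rw [hw3, one_mul]
        _ = _ := by rw [pow_succ, pow_two]; group
    rw [h3]
    exact mul_mem h2 h2
  obtain ⟨k, f, rfl⟩ := hwS
  have hf : F.j f ∈ D := by
    have h1 := mul_mem (inv_mem (zpow_mem hv k)) hw
    rwa [inv_mul_cancel_left] at h1
  have hs := Fischer.Fi22Order.isSimple
  have hN : (D.comap F.j).Normal := ⟨fun a ha g => by
    rw [mem_comap, map_mul, map_mul, map_inv]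
    exact conj_mem (h.ti.cent_le hv (ne_one_of_order hvp) (mem_C1.2 (F.comm g).symm)) ha⟩
  rcases hN.eq_bot_or_eq_top with h1 | h1
  · have h2 : f ∈ D.comap F.j := hf
    rw [h1, mem_bot] at h2
    rw [h2, map_one, mul_one] at hne
    exact hne (zpow_mem (mem_zpowers v) k)
  · have h2 : IsPGroup 3 (D.comap F.j) := h.pgrp.comap_of_injective F.j F.inj
    rw [h1] at h2
    have h3 : Finite Spor.Fi22 := Finite.of_injective _ F.inj
    obtain ⟨n, hn⟩ := IsPGroup.iff_card.1 h2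
    rw [card_top, Fischer.Fi22Order.card_fi22] at hn
    have h4 : 2 ∣ 3 ^ n := by rw [← hn]; norm_num
    exact absurd (Nat.prime_two.dvd_of_dvd_pow h4) (by norm_num)

theorem b3_model : NoSit 3 Spor.BabyMonster := by
  have h3 : Fact (Nat.Prime 3) := ⟨Nat.prime_three⟩
  have hB : Spor.IsoB Spor.BabyMonster := ⟨MulEquiv.refl _⟩
  have hfin : Finite Spor.BabyMonster := Nat.finite_of_card_ne_zero (by rw [NotCT.Orders.b hB]; norm_num)
  intro D hD
  obtain ⟨v, hv, hvp, -⟩ := exists_fix hD.loc.pgrp hD.loc.pgrp hD.loc.rk.ne_bot le_normalizer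
  by_cases h7 : 7 ∣ Nat.card ↥(centralizer ({v} : Set Spor.BabyMonster))
  · obtain ⟨F⟩ := H604.RB.Three.frame_of_seven hB hvp h7
    exact not_fiFrame hD.loc hv hvp F
  · exact not_qframe hD hv hvp (H604.RB.ThreeB.qframe_three hB hvp h7)

/-- **The row `B`, `p = 3`.** -/
theorem b_3 : Row.{u} 3 (fun S _ => Spor.IsoB S) := by
  intro G _ _ h
  obtain ⟨e⟩ := h
  exact NoSit.congr e b3_model

end Cfsg.Agent.TID.SO.E
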