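import Cfsg.Agent.TID.SO.Asm
import Cfsg.Agent.LThreeMB.Quo

/-!
# The rows `B`, `M` of `KSporOdd` (helper5, project TID): tools

* `Sit.cj` : conjugation; `char_congr` : transport of "characteristic `p`";
* `false_of_XX` : `C(v) / ⟨v⟩` is simple; `exists_ns` : an element of `D` with a nonsolvable centralizer.
-/

set_option autoImplicit false
set_option linter.unusedSectionVars false
set_option maxHeartbeats 400000

namespace Cfsg.Agent.TID.SO.E

open Cfsg Subgroup Cfsg.Agent.TID Cfsg.Agent.TID.SO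
open Cfsg.Agent.LThreeMB (XX Zx self)

universe u v

/-- characteristic `p` -/
abbrev ChP (p : ℕ) (H : Type u) [Group H] : Prop := centralizer (pCore p H : Set H) ≤ pCore p H

theorem char_congr {p : ℕ} {A : Type u} {B : Type v} [Group A] [Group B] (e : A ≃* B) (hc : ChP p A) : ChP p B := by
  unfold ChP
  rw [← Lib.Cores.map_equiv_pCore e p]
  intro y hy
  refine ⟨e.symm y, hc ?_, by simp⟩
  rw [mem_centralizer_iff]
  intro q hq
  apply e.injective
  rw [map_mul, map_mul, e.apply_symm_apply]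
  exact mem_centralizer_iff.1 hy (e q) ⟨q, hq, rfl⟩

variable {G : Type u} [Group G] {p : ℕ} {D : Subgroup G}

theorem sit_cj (h : Sit p D) (g : G) : Sit p (cj g D) := h.map (MulAut.conj g)

theorem conj_mem_cj {v : G} (hv : v ∈ D) (g : G) : g * v * g⁻¹ ∈ cj g D := ⟨v, hv, rfl⟩

theorem order_conj (g v : G) : orderOf (g * v * g⁻¹) = orderOf v := MulEquiv.orderOf_eq (MulAut.conj g) v

theorem not_comm_of_center {S : Type v} [Group S] (h : center S ≠ ⊤) : ¬ IsMulCommutative S := by
  intro h1
  exact h (eq_top_iff.2 fun a _ => mem_center_iff.2 fun b => h1.1.1 b a)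

theorem not_comm_of_card {S : Type v} [Group S] [IsSimpleGroup S] (h : ¬ (Nat.card S).Prime) :
    ¬ IsMulCommutative S := by
  intro h1
  let _ : CommGroup S := { (inferInstance : Group S) with mul_comm := h1.1.1 }
  exact h IsSimpleGroup.prime_card

variable [Finite G] [hp : Fact p.Prime]

/-- a generator of a group of prime order -/
theorem mem_zpowers_of {w v : G} (hw : orderOf w = p) (hv : orderOf v = p) (h : v ∈ zpowers w) : w ∈ zpowers v := by
  have h5 : zpowers v = zpowers w :=
    Subgroup.eq_of_le_of_card_ge (zpowers_le.2 h) (by rw [Nat.card_zpowers, Nat.card_zpowers, hw, hv])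
  rw [h5]
  exact mem_zpowers w

/-- `C(v) / ⟨v⟩` is not a nonabelian simple group -/
theorem false_of_XX (h : Loc p D) {v : G} (hv : v ∈ D) (hvp : orderOf v = p) (hs : IsSimpleGroup (XX v))
    (hn : ¬ IsMulCommutative (XX v)) : False := by
  refine false_of_quot h.pgrp h.ti h.rk hv hvp hn rfl (QuotientGroup.mk' (Zx v)) (QuotientGroup.mk'_surjective _)
    fun c hc _ => ?_
  have h1 : c ∈ Zx v := (QuotientGroup.eq_one_iff c).1 hc
  obtain ⟨i, hi⟩ := mem_zpowers_iff.1 h1
  exact mem_zpowers_iff.2 ⟨i, congrArg Subtype.val hi⟩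

/-- an element of `D` whose centralizer is not solvable -/
theorem exists_ns (h : Sit p D) {T : Sylow p G} {w : G}
    (hT : ∀ t ∈ (T : Subgroup G), (∀ r ∈ (T : Subgroup G), r * t = t * r) → t ∈ zpowers w)
    (hw : ¬ Group.IsSolvable (C1 w)) : ∃ v ∈ D, orderOf v = p ∧ ¬ Group.IsSolvable (C1 v) := by
  rcases h.tri with ⟨L, hL⟩ | h2
  · obtain ⟨v, hv, hvp, -⟩ := exists_fix h.loc.pgrp h.loc.pgrp h.loc.rk.ne_bot le_normalizer
    refine ⟨v, hv, hvp, fun hs => not_solvable hL ?_⟩
    exact Group.isSolvable_of_isSolvable_injective (f := inclusion (hL.le.trans (Cz_le_C1 hv))) (inclusion_injective _)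
  · obtain ⟨P, z, -, -, hz, hzp, hP⟩ := central_of_caseI h.loc h2.1
    refine ⟨z, hz, hzp, fun hs => hw ?_⟩
    obtain ⟨g, hg⟩ := MulAction.exists_smul_eq G P T
    have hm : ∀ a, a ∈ (T : Subgroup G) ↔ g⁻¹ * a * g ∈ (P : Subgroup G) := by
      intro a
      rw [← hg, Sylow.coe_subgroup_smul, mem_pointwise_smul_iff_inv_smul_mem, ← map_inv, MulAut.smul_def,
        MulAut.conj_apply, inv_inv]
    have hzP : z ∈ (P : Subgroup G) := by
      have h1 : IsPGroup p ↥((P : Subgroup G) ⊔ zpowers z) :=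
        P.isPGroup'.to_sup_of_normal_right' (IsPGroup.of_card (n := 1) (by rw [Nat.card_zpowers, hzp, pow_one]))
          (hP.trans (C1_le_Nz_zpowers z))
      rw [← P.is_maximal' h1 le_sup_left]
      exact mem_sup_right (mem_zpowers z)
    have h1 : g * z * g⁻¹ ∈ zpowers w := by
      refine hT _ ((hm _).2 (by rwa [show g⁻¹ * (g * z * g⁻¹) * g = z by group])) fun r hr => ?_
      have h3 := mem_C1.1 (hP ((hm r).1 hr))
      calc r * (g * z * g⁻¹) = g * ((g⁻¹ * r * g) * z) * g⁻¹ := by group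
        _ = g * z * g⁻¹ * r := by rw [← h3]; group
    obtain ⟨i, hi⟩ := mem_zpowers_iff.1 h1
    have h3 : ∀ c : C1 w, g⁻¹ * (c : G) * g ∈ C1 z := by
      intro c
      have h4 : w ^ i * c = c * w ^ i := (Commute.zpow_left (mem_C1.1 c.2) i).eq
      rw [hi] at h4
      rw [mem_C1]
      calc z * (g⁻¹ * (c : G) * g) = g⁻¹ * (g * z * g⁻¹ * c) * g := by group
        _ = g⁻¹ * (c : G) * g * z := by rw [h4]; group
    let f : C1 w →* C1 z :=
      { toFun := fun c => ⟨g⁻¹ * (c : G) * g, h3 c⟩
        map_one' := Subtype.ext (by simp)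
        map_mul' := fun a b => Subtype.ext (by
          change g⁻¹ * ((a : G) * b) * g = g⁻¹ * a * g * (g⁻¹ * b * g)
          group) }
    refine Group.isSolvable_of_isSolvable_injective (f := f) fun a b hab => Subtype.ext ?_
    have h4 : g⁻¹ * (a : G) * g = g⁻¹ * b * g := congrArg Subtype.val hab
    exact mul_left_cancel (mul_right_cancel h4)

end Cfsg.Agent.TID.SO.E
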