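import Cfsg.Agent.TID.SO.E.Base
import Cfsg.Agent.H316.VZ.MFive
import Cfsg.Agent.H979.Ccp.MFiveC

/-!
# The row `M`, `p = 5` of `KSporOdd` (helper5, project TID)
-/

set_option autoImplicit false
set_option maxRecDepth 100000
set_option maxHeartbeats 400000

namespace Cfsg.Agent.TID.SO.E

open Cfsg Cfsg.Agent.TID Cfsg.Agent.TID.SO
open Cfsg.Agent.MonsterX Cfsg.Agent.MonsterX.InstData Cfsg.Agent.MonsterX.MainPack Cfsg.Agent.MonsterU
open Cfsg.Agent.MonsterP Cfsg.Agent.MonsterN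
open Cfsg.Agent.LThreeMB (KChart.Cent KChart.pi KChart.chart fr XX)
open Subgroup (centralizer mem_centralizer_singleton_iff)

universe u

/-- the elements of order 5 of fixed rank 0 -/
theorem m5_zero {x : centralizer ({KDone.K.z} : Set ↥InstData.M.G)} (hx : orderOf x = 5)
    (hfr : fr (KChart.pi Cfsg.Agent.MFive.Row.hc x) = 1) : ChP 5 (C1 (x : ↥InstData.M.G)) := by
  have hfin : Finite ↥InstData.M.G := Cfsg.Agent.MFive.Row.finite_model
  have hJ : CpAutBFive.Closed.HJ := fun _ hs h => Cfsg.Agent.MFive.JTwo.isoJ2 hs h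
  have h := KChart.chart KDone.lft Cfsg.Agent.MFive.Row.hc
  obtain ⟨x₀, k₀, hx₀, hfr₀, hk₀, hkk₀⟩ := BpSpor.M5.exists_k BpSpor.M5.hA
  obtain ⟨k, hk, hkk⟩ := BpSpor.M5.exists_sq h Nat.prime_five (by decide) (CoFive.Ranks.wclassOf _) hx₀ hfr₀ hk₀ hkk₀
    hx hfr
  have hJx := hJ _ (Cfsg.Agent.MFive.orderOf_pi h Nat.prime_five (by decide) hx) hfr
  have hD := BpSpor.M5.dvd_zero h BpSpor.M5.trNe (CpAutBFive.Closed.coFive hJ) CpAutBFive.Closed.hnEight
    BpSpor.M5.hasPair (CoFive.Ranks.wclassOf _) CoFive.Sylow.exists_four hx hfr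
  exact H316.VZ.MFive.constrained h BpSpor.M5.trNe BpSpor.M5.hasPair (CoFive.Ranks.wclassOf _) hx hfr hJx hD hk hkk

/-- the two cases for an element of order 5 commuting with a conjugate of `z` -/
theorem m5_cases {x : ↥InstData.M.G} (hx : orderOf x = 5)
    (hex : ∃ g : ↥InstData.M.G, (g * KDone.K.z * g⁻¹) * x = x * (g * KDone.K.z * g⁻¹)) :
    Spor.IsoHN (XX x) ∨ ChP 5 (C1 x) := by
  have hJ : CpAutBFive.Closed.HJ := fun _ hs h => Cfsg.Agent.MFive.JTwo.isoJ2 hs h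
  rcases Cfsg.Agent.MFive.Row.cases_model (CpAutBFive.Closed.coFive hJ) CpAutBFive.Closed.hnEight hx hex with
    h1 | ⟨x₀, k, i, hx₀, hfr, hk⟩
  · exact Or.inl h1
  · obtain ⟨e⟩ := Cfsg.Agent.MFive.exists_cent_equiv Nat.prime_five hx ((Subgroup.orderOf_coe x₀).trans hx₀) hk
    exact Or.inr (char_congr e (m5_zero hx₀ hfr))

theorem m5_model : NoSit 5 ↥InstData.M.G := by
  have h5 : Fact (Nat.Prime 5) := ⟨Nat.prime_five⟩
  have hfin : Finite ↥InstData.M.G := Cfsg.Agent.MFive.Row.finite_model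
  intro D hD
  obtain ⟨T, w, hT, hw⟩ := H979.Ccp.MFiveC.five'
  obtain ⟨v, hv, hvp, hns⟩ := exists_ns hD hT hw
  rcases m5_cases hvp ((CpAutBFive.EvenRow.cases_solvable hvp).resolve_right hns) with h1 | h1
  · obtain ⟨h2, h3, -⟩ := Cfsg.Agent.MFive.simple_of_isoHN h1
    exact false_of_XX hD.loc hv hvp h2 (not_comm_of_center h3)
  · exact hD.not_char hv (ne_one_of_order hvp) h1

/-- **The row `M`, `p = 5`.** -/
theorem m_5 : Row.{u} 5 (fun S _ => Spor.IsoM S) := by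
  intro G _ _ h
  obtain ⟨e⟩ := h
  obtain ⟨f⟩ := Cfsg.Agent.MonsterP.Equiv.equiv
  exact NoSit.congr (e.trans f) m5_model

end Cfsg.Agent.TID.SO.E
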