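import Cfsg.Agent.TID.SO.E.Base
import Cfsg.Agent.H544.Ccp.MSeven

/-!
# The row `M`, `p = 7` of `KSporOdd` (helper5, project TID)
-/

set_option autoImplicit false
set_option maxRecDepth 100000
set_option maxHeartbeats 400000

namespace Cfsg.Agent.TID.SO.E

open Cfsg Subgroup Cfsg.Agent.TID Cfsg.Agent.TID.SO
open Cfsg.Agent.MonsterX Cfsg.Agent.MonsterX.InstData
open Cfsg.Agent.MonsterP
open Cfsg.Agent.LThreeMB (KChart.Cent KChart.pi KChart.chart fr XX exists_XX_equiv)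
open Cfsg.Agent.H961.SevLift Cfsg.Agent.H961.SevM

universe u

/-- `w` does not lie in `D` -/
theorem not_mem_qq {K : Type u} [Group K] [Finite K] {w a s : K} {Q D : Subgroup K} (hQ : QQ w Q) (hw : orderOf w = 7)
    (ha : a * w * a⁻¹ ∈ Q) (hs : s ∈ Q) (hne : s * (a * w * a⁻¹) ≠ a * w * a⁻¹ * s) (h7 : ¬ 7 ^ 7 ∣ Nat.card K)
    (h : Sit 7 D) (hwD : w ∈ D) : False := by
  have hp : Fact (Nat.Prime 7) := ⟨by norm_num⟩
  have hw1 : w ≠ 1 := ne_one_of_order hw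
  have hN : C1 w ≤ Nz D := h.loc.ti.cent_le hwD hw1
  have hn : ∀ d : K, d * w = w * d → ∀ q ∈ D ⊓ C1 w, d * q * d⁻¹ ∈ D ⊓ C1 w := fun d hd q hq =>
    ⟨conj_mem (hN (mem_C1.2 hd.symm)) hq.1,
      (C1 w).mul_mem ((C1 w).mul_mem (mem_C1.2 hd.symm) hq.2) ((C1 w).inv_mem (mem_C1.2 hd.symm))⟩
  have h1 : D ⊓ C1 w ≤ Q := hQ.max _ inf_le_right hn (h.loc.pgrp.to_le inf_le_left)
  have h2 : D ⊓ C1 w = Q := by
    refine hQ.irr _ hn ⟨hwD, mem_C1.2 rfl⟩ h1 fun h3 => ?_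
    obtain ⟨v, hv, -, hc, hvw⟩ := exists_snd h.loc.pgrp h.loc.rk hwD hw
    exact hvw (h3 ▸ (⟨hv, mem_C1.2 hc⟩ : v ∈ D ⊓ C1 w))
  have hQD : Q ≤ D := h2 ▸ inf_le_left
  have h3 : Q = D := by
    refine eq_of_le_of_card_ge hQD ?_
    obtain ⟨k, hk⟩ := IsPGroup.iff_card.1 h.loc.pgrp
    rw [hk, hQ.card]
    refine Nat.pow_le_pow_right (by norm_num) ?_
    by_contra h4
    apply h7
    rw [← D.index_mul_card, hk, show 7 ^ 7 = 7 * 7 ^ 6 by norm_num]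
    exact Nat.mul_dvd_mul h.nsyl (pow_dvd_pow 7 (by omega))
  have h4 : a ∈ Nz D := h.loc.ti.mem' hwD hw1 (hQD ha)
  have h5 : a⁻¹ * s * a ∈ Q := h3 ▸ conj_mem' h4 (hQD hs)
  have h6 : a⁻¹ * s * a * w = w * (a⁻¹ * s * a) := mem_centralizer_singleton_iff.1 (hQ.le h5)
  apply hne
  calc s * (a * w * a⁻¹) = a * (a⁻¹ * s * a * w) * a⁻¹ := by group
    _ = a * w * a⁻¹ * s := by rw [h6]; group

theorem m7_model : NoSit 7 ↥InstData.M.G := by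
  have hp7 : Nat.Prime 7 := by norm_num
  have hp : Fact (Nat.Prime 7) := ⟨hp7⟩
  have hfin : Finite ↥InstData.M.G := Cfsg.Agent.MFive.Row.finite_model
  have h := KChart.chart KDone.lft Cfsg.Agent.MFive.Row.hc
  intro D hD
  obtain ⟨T, w₀, hT, hw₀⟩ := H544.Ccp.MSeven.seven'
  obtain ⟨v, hv, hvp, hns⟩ := exists_ns hD hT hw₀
  obtain ⟨x, g, hg⟩ := Cfsg.Agent.MFive.Model.exists_in (N := KDone.K)
    (MSevenT.hexOdd v hvp fun ho => hns (Cfsg.Agent.MFive.Row.FT _ ho))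
  have hx' : orderOf (x : ↥InstData.M.G) = 7 := by rw [← hvp, ← hg, order_conj]
  have hx : orderOf x = 7 := by rw [← Subgroup.orderOf_coe, hx']
  rcases CpAutMSeven.Ranks.hranks _ (Cfsg.Agent.MFive.orderOf_pi h hp7 (by decide) hx) with hfr | hfr
  swap
  · obtain ⟨h1, h2⟩ := BpRankZero.MRow.he_facts (CpAutMSeven.ZeroComps.heSix x hx hfr)
    obtain ⟨-, ⟨e⟩⟩ := exists_XX_equiv hg
    have h3 : IsSimpleGroup (XX v) := (MulEquiv.isSimpleGroup_congr e).1 h1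
    refine false_of_XX hD.loc hv hvp h3 (not_comm_of_card ?_)
    rw [← Nat.card_congr e.toEquiv, h2]
    norm_num
  obtain ⟨y, v', s, a, c, w, hL, h5⟩ := exists_data'
  obtain ⟨Q, hQ, -⟩ := exists_qq hL h5
  have hwo' : orderOf (w : ↥InstData.M.G) = 7 := orderOf_eq_prime hL.w7 hL.w1
  have hwo : orderOf w = 7 := by rw [← Subgroup.orderOf_coe, hwo']
  have hfw := fr_eq_one hL h5 hwo
  have h7 : ¬ 7 ^ 7 ∣ Nat.card ↥InstData.M.G := by rw [card_model]; norm_num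
  obtain ⟨ha, s1, hs1, hne⟩ := hL.mem_Q hQ h5 h7
  obtain ⟨k, i, hk⟩ := BpSevenCo.Conj.wclass _ _ (Cfsg.Agent.MFive.orderOf_pi h hp7 (by decide) hx)
    (Cfsg.Agent.MFive.orderOf_pi h hp7 (by decide) hwo) hfr hfw
  obtain ⟨l, hl⟩ := Cfsg.Agent.MFive.exists_conj_of_conj h hp7 (by decide) (x := x) (y := w ^ i)
    (by rw [← hx, pow_orderOf_eq_one]) (by rw [← pow_mul, mul_comm, pow_mul, ← hwo, pow_orderOf_eq_one, one_pow])
    (s := k) (by rw [hk, map_pow])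
  have hl' : (l : ↥InstData.M.G) * x * (l : ↥InstData.M.G)⁻¹ = (w : ↥InstData.M.G) ^ i := congrArg Subtype.val hl
  have h1 : (l : ↥InstData.M.G) * g⁻¹ * v * ((l : ↥InstData.M.G) * g⁻¹)⁻¹ = (w : ↥InstData.M.G) ^ i := by
    rw [← hl', ← hg]
    group
  have h2 := conj_mem_cj hv ((l : ↥InstData.M.G) * g⁻¹)
  refine not_mem_qq hQ hwo' ha hs1 hne h7 (sit_cj hD ((l : ↥InstData.M.G) * g⁻¹)) (zpowers_le.2 h2 ?_)
  refine mem_zpowers_of hwo' (by rw [order_conj, hvp]) ?_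
  rw [h1]
  exact pow_mem (mem_zpowers _) i

/-- **The row `M`, `p = 7`.** -/
theorem m_7 : Row.{u} 7 (fun S _ => Spor.IsoM S) := by
  intro G _ _ h
  obtain ⟨e⟩ := h
  obtain ⟨f⟩ := Cfsg.Agent.MonsterP.Equiv.equiv
  exact NoSit.congr (e.trans f) m7_model

end Cfsg.Agent.TID.SO.E
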