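import Cfsg.Agent.TID.SO.E.Base
import Cfsg.Agent.H404.XR.MLoc

/-!
# The row `M`, `p = 13` of `KSporOdd` (helper5, project TID)

The end of the proof follows `H794.MonCube.Hyp.ne_sq`.
-/

set_option autoImplicit false
set_option maxRecDepth 100000
set_option maxHeartbeats 400000

namespace Cfsg.Agent.TID.SO.E

open Cfsg Subgroup Cfsg.Agent.TID Cfsg.Agent.TID.SO
open Cfsg.Agent.H794.MonSec
open Cfsg.Agent.H609.Inv.Thirteen (RW Ab exists_RW)

universe u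

/-- a TI subgroup of order `p ^ 2` which is normal in the nonabelian group `R` of order `p ^ 3` -/
theorem cube_false {G : Type u} [Group G] [Finite G] {p : ℕ} [hp : Fact p.Prime] {x z : G} {Q R T : Subgroup G}
    (h : H794.MonCube.Hyp p x z Q) (hRc : Nat.card R = p ^ 3) (hxR : x ∈ R) (hRx : ∀ r ∈ R, r * x = x * r)
    (hQR : ∀ q ∈ Q, ∀ r ∈ R, q * r * q⁻¹ ∈ R)
    (hno : ∀ k ∈ Q, ∀ l ∈ Q, k * l ≠ l * k → ¬ ∀ r ∈ R, (k * l * k⁻¹ * l⁻¹) * r * (k * l * k⁻¹ * l⁻¹)⁻¹ = r)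
    (hna : ¬ ∀ a ∈ R, ∀ b ∈ R, a * b = b * a) (hTR : T ≤ R) (hTc : Nat.card T = p ^ 2) (hRT : R ≤ Nz T) (hT : TI T) :
    False := by
  have hRp : IsPGroup p R := IsPGroup.of_card hRc
  have hxT : x ∈ T := by
    by_contra hxT
    have hlt : T < T ⊔ zpowers x := lt_of_le_of_ne le_sup_left fun e => hxT (by
      rw [e]; exact mem_sup_right (mem_zpowers x))
    have htop : T ⊔ zpowers x = R := by
      refine Subgroup.eq_of_le_of_card_ge (sup_le hTR (zpowers_le.2 hxR)) ?_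
      have h1 : Nat.card ↥(T ⊔ zpowers x) ∣ p ^ 3 := by
        rw [← hRc]
        exact Subgroup.card_dvd_of_le (sup_le hTR (zpowers_le.2 hxR))
      obtain ⟨n, -, hn⟩ := (Nat.dvd_prime_pow hp.out).1 h1
      have h2 : Nat.card ↥T < Nat.card ↥(T ⊔ zpowers x) := by
        refine lt_of_le_of_ne (Subgroup.card_le_of_le hlt.le) fun e => hlt.ne ?_
        exact Subgroup.eq_of_le_of_card_ge hlt.le e.ge
      rw [hRc, hn]
      refine Nat.pow_le_pow_right hp.out.pos ?_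
      rw [hn, hTc] at h2
      exact (Nat.pow_lt_pow_iff_right hp.out.one_lt).1 h2
    have hTT : ∀ u ∈ T, ∀ v ∈ T, u * v = v * u := fun u hu v hv =>
      congrArg Subtype.val ((IsPGroup.isMulCommutative_of_card_eq_prime_sq hTc).is_comm.comm (⟨u, hu⟩ : ↥T) ⟨v, hv⟩)
    have h1 : T ⊔ zpowers x ≤ Cz T :=
      sup_le (fun u hu => mem_Cz.2 fun v hv => hTT v hv u hu) (zpowers_le.2 (mem_Cz.2 fun v hv => hRx v (hTR hv)))
    have h2 : T ⊔ zpowers x ≤ Cz (T ⊔ zpowers x) :=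
      sup_le (le_Cz_comm h1) (zpowers_le.2 (mem_Cz.2 fun v hv => hRx v (htop ▸ hv)))
    rw [htop] at h2
    exact hna fun a ha b hb => mem_Cz.1 (h2 hb) a ha
  obtain ⟨k, hk, l, hl, hkl⟩ := h.nc
  apply hno k hk l hl hkl
  have hwQ : k * l * k⁻¹ * l⁻¹ ∈ Q := mul_mem (mul_mem (mul_mem hk hl) (inv_mem hk)) (inv_mem hl)
  obtain ⟨m, hm⟩ := h.q2 ⟨_, hwQ⟩
  have hcop : (2 ^ m).Coprime p := Nat.Coprime.pow_left m ((Nat.coprime_primes Nat.prime_two hp.out).2 (Ne.symm h.hp2))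
  have hcx' : ∀ q : G, q * x = x * q → ∀ a ∈ zpowers x, q * a * q⁻¹ = a := by
    intro q hq a ha
    obtain ⟨i, rfl⟩ := mem_zpowers_iff.1 ha
    exact mul_inv_eq_iff_eq_mul.2 ((show Commute q x from hq).zpow_right i).eq
  have hQT : ∀ q ∈ Q, ∀ t ∈ T, q * t * q⁻¹ ∈ T := fun q hq t ht =>
    conj_mem (hT.cent_le hxT (ne_one_of_order h.hx) (mem_C1.2 (h.qx q hq).symm)) ht
  have hRT' : ∀ r ∈ R, ∀ t ∈ T, r * t * r⁻¹ ∈ T := fun r hr t ht => conj_mem (hRT hr) ht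
  have hTcen := cent_of_chain (A := zpowers x) (B := T) (hRp.to_le hTR) (n := 2 ^ m) (congrArg Subtype.val hm) hcop
    (hcx' _ (h.qx _ hwQ)) (zpowers_le.2 hxT) (comm_trivial (p := p) (zpowers_le.2 hxT)
      (by rw [hTc, Nat.card_zpowers, h.hx, pow_two])
      (fun b hb a ha => by rw [hcx' b (hRx b (hTR hb)) a ha]; exact ha)
      (fun a ha => by rw [hcx' k (h.qx k hk) a ha]; exact ha) (hQT k hk)
      (fun a ha => by rw [hcx' l (h.qx l hl) a ha]; exact ha) (hQT l hl))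
  exact cent_of_chain (A := T) hRp (n := 2 ^ m) (congrArg Subtype.val hm) hcop hTcen hTR
    (comm_trivial (p := p) hTR (by rw [hRc, hTc]; ring) hRT' (hQT k hk) (hQR k hk) (hQT l hl) (hQR l hl))

theorem noSit_thirteen {G : Type u} [Group G] [Finite G] {x z t : G} {Q : Subgroup G} (h : H131.T5M13.D x z t Q) :
    NoSit 13 G := by
  have hp : Fact (Nat.Prime 13) := ⟨by norm_num⟩
  intro D hD
  obtain ⟨R, W, hr⟩ := exists_RW h
  obtain ⟨P, hP1, hP2⟩ := hD.caseI fun h5 => h.hyp.h4 ((pow_dvd_pow 13 (by norm_num)).trans h5)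
  obtain ⟨P', hP'⟩ := (IsPGroup.of_card hr.card).exists_le_sylow
  have hPR : R = (P' : Subgroup G) := by
    refine Subgroup.eq_of_le_of_card_ge hP' ?_
    obtain ⟨n, hn⟩ := IsPGroup.iff_card.1 P'.2
    rw [hn, hr.card]
    refine Nat.pow_le_pow_right hp.out.pos ?_
    by_contra hlt
    exact h.hyp.h4 ((pow_dvd_pow 13 (by omega)).trans (hn ▸ Subgroup.card_subgroup_dvd_card (P' : Subgroup G)))
  obtain ⟨g, hg⟩ := MulAction.exists_smul_eq G P P'
  have hm : ∀ a, a ∈ R ↔ g⁻¹ * a * g ∈ (P : Subgroup G) := by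
    intro a
    rw [hPR, ← hg, Sylow.coe_subgroup_smul, mem_pointwise_smul_iff_inv_smul_mem, ← map_inv, MulAut.smul_def,
      MulAut.conj_apply, inv_inv]
  have hc : Nat.card D = 13 ^ 2 := by
    obtain ⟨k, hk⟩ := IsPGroup.iff_card.1 hD.loc.pgrp
    have h1 := hD.loc.rk.sq_dvd
    rw [hk] at h1 ⊢
    have h2 := (Nat.pow_dvd_pow_iff_le_right (by norm_num)).1 h1
    have h3 : ¬ 3 ≤ k := by
      intro h4
      apply h.hyp.h4
      rw [← D.index_mul_card, hk, show 13 ^ 4 = 13 * 13 ^ 3 by norm_num]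
      exact Nat.mul_dvd_mul hD.nsyl (pow_dvd_pow 13 h4)
    rw [show k = 2 by omega]
  refine cube_false h.hyp hr.card hr.mem hr.cen hr.qr hr.no (fun hab => Ab.false h ⟨hr, hab⟩) (T := cj g D)
    (fun a ha => (hm a).2 (hP1 (mem_cj.1 ha))) (by rw [card_cj, hc]) (le_Nz fun r hr' a ha => mem_cj.2 ?_)
    (hD.loc.ti.cj g)
  have h1 := conj_mem (hP2 ((hm r).1 hr')) (mem_cj.1 ha)
  rwa [show g⁻¹ * r * g * (g⁻¹ * a * g) * (g⁻¹ * r * g)⁻¹ = g⁻¹ * (r * a * r⁻¹) * g by group] at h1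

/-- **The row `M`, `p = 13`.** -/
theorem m_13 : Row.{u} 13 (fun S _ => Spor.IsoM S) := by
  intro G _ _ h
  obtain ⟨e⟩ := h
  obtain ⟨f⟩ := Cfsg.Agent.MonsterP.Equiv.equiv
  have hfin := Cfsg.Agent.MFive.Row.finite_model
  obtain ⟨x, t, Q, hD⟩ := H404.XR.model_DD
  exact NoSit.congr (e.trans f) (noSit_thirteen hD)

end Cfsg.Agent.TID.SO.E
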