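import Cfsg.Agent.TID.SO.E.Base
import Cfsg.Agent.H316.VZ.MThree
import Cfsg.Agent.H411.MThree

/-!
# The row `M`, `p = 3` of `KSporOdd` (helper5, project TID)

`pc_inv` follows a step of `H345.IRowM.exists_x₀`.
-/

set_option autoImplicit false
set_option maxRecDepth 100000
set_option maxHeartbeats 400000

namespace Cfsg.Agent.TID.SO.E

open Cfsg Subgroup Cfsg.Agent.TID Cfsg.Agent.TID.SO
open Cfsg.Agent.MonsterX Cfsg.Agent.MonsterX.InstData Cfsg.Agent.MonsterX.MainPack Cfsg.Agent.MonsterU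
open Cfsg.Agent.MonsterP Cfsg.Agent.MonsterN
open Cfsg.Agent.LThreeMB (KChart.Cent KChart.pi KChart.chart fr XX Zx self mk exists_XX_equiv good_of_inputs conj_six)

universe u

/-- a 3-central element commutes with an involution -/
theorem pc_inv {G : Type u} [Group G] [Finite G] {x d : G} (hx : orderOf x = 3) (hF : Spor.IsoFi24' (XX x))
    (P : Sylow 3 G) (hP : (P : Subgroup G) ≤ C1 d) : ∃ v : G, v * v = 1 ∧ v ≠ 1 ∧ d * v = v * d := by
  have h3 : Fact (Nat.Prime 3) := ⟨Nat.prime_three⟩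
  have hzx : IsPGroup 3 (zpowers (self x)) := IsPGroup.of_card (n := 1) (by
    rw [Nat.card_zpowers, ← Subgroup.orderOf_coe, pow_one]
    exact hx)
  obtain ⟨T, hT⟩ := hzx.exists_le_sylow
  have hxT : self x ∈ (T : Subgroup _) := hT (mem_zpowers _)
  obtain ⟨S, hS⟩ := (T.isPGroup'.map (centralizer ({x} : Set G)).subtype).exists_le_sylow
  obtain ⟨g, hg⟩ := MulAction.exists_smul_eq G P S
  have hdc : ∀ s ∈ (S : Subgroup G), s * (g * d * g⁻¹) = g * d * g⁻¹ * s := by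
    intro s hs
    rw [← hg, Sylow.coe_subgroup_smul, mem_pointwise_smul_iff_inv_smul_mem, ← map_inv, MulAut.smul_def,
      MulAut.conj_apply, inv_inv] at hs
    have h1 := mem_C1.1 (hP hs)
    calc s * (g * d * g⁻¹) = g * (g⁻¹ * s * g * d) * g⁻¹ := by group
      _ = g * d * g⁻¹ * s := by rw [← h1]; group
  have hdx : (g * d * g⁻¹) * x = x * (g * d * g⁻¹) := (hdc _ (hS ⟨self x, hxT, rfl⟩)).symm
  have h1 : ¬ 3 ∣ (centralizer ({mk x hdx} : Set (XX x))).index := by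
    intro h2
    have h4 : (T : Subgroup ↥(centralizer ({x} : Set G))).map (QuotientGroup.mk' (Zx x)) ≤
        centralizer ({mk x hdx} : Set (XX x)) := by
      rintro _ ⟨τ, hτ, rfl⟩
      rw [mem_centralizer_singleton_iff]
      have h5 : τ * ⟨_, mem_centralizer_singleton_iff.2 hdx⟩ = ⟨_, mem_centralizer_singleton_iff.2 hdx⟩ * τ :=
        Subtype.ext (hdc _ (hS ⟨τ, hτ, rfl⟩))
      exact congrArg (QuotientGroup.mk' (Zx x)) h5
    exact (T.mapSurjective (QuotientGroup.mk'_surjective (Zx x))).not_dvd_index (h2.trans (index_dvd_of_le h4))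
  obtain ⟨τ, h2, h4, h5⟩ := H411.FiCent.exists_inv_of_iso hF h1
  obtain ⟨v, hv, hv1, hvd⟩ := H411.MThree.exists_lift_inv hx hdx h2 h4 h5
  refine ⟨g⁻¹ * v * g, ?_, fun h6 => hv1 ?_, ?_⟩
  · calc g⁻¹ * v * g * (g⁻¹ * v * g) = g⁻¹ * (v * v) * g := by group
      _ = 1 := by rw [hv]; group
  · calc v = g * (g⁻¹ * v * g) * g⁻¹ := by group
      _ = 1 := by rw [h6]; group
  · calc d * (g⁻¹ * v * g) = g⁻¹ * (g * d * g⁻¹ * v) * g := by group
      _ = g⁻¹ * v * g * d := by rw [← hvd]; group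

/-- the cases for an element of order 3 commuting with an involution -/
theorem m3_cases {x v : ↥InstData.M.G} (hx : orderOf x = 3) (hv : v * v = 1) (hv1 : v ≠ 1) (hc : x * v = v * x) :
    (IsSimpleGroup (XX x) ∧ center (XX x) ≠ ⊤) ∨ ChP 3 (C1 x) := by
  have hfin : Finite ↥InstData.M.G := Cfsg.Agent.MFive.Row.finite_model
  have hs : IsSimpleGroup ↥InstData.M.G := Cfsg.Agent.MFive.Row.simple_model
  have h := KChart.chart KDone.lft Cfsg.Agent.MFive.Row.hc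
  have I := LThreeMB.CoOneFin.coOne
  have ht := LThreeMB.KPair.trNe KDone.lft Cfsg.Agent.MFive.Row.hc
    (LThreeMBTr.traceNe KDone.lft LThreeMBTr.TensK.tens)
  have hp := LThreeMB.KPair.hasPair KDone.lft Cfsg.Agent.MFive.Row.hc LThreeB.Row.second LThreeMB.COct.octPair
  have hz : ∀ y : centralizer ({KDone.K.z} : Set ↥InstData.M.G), orderOf y = 3 →
      fr (KChart.pi Cfsg.Agent.MFive.Row.hc y) = 1 → ChP 3 (C1 (y : ↥InstData.M.G)) := fun y hy hfy =>
    H316.VZ.MThree.constrained_zero KDone.lft Cfsg.Agent.MFive.Row.hc I ht hp BpSpor.MThree.card_model hy hfy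
  obtain ⟨y, g, hg⟩ := Cfsg.Agent.MFive.Model.exists_in (N := KDone.K)
    (LThreeM.FiRow.exists_z_of_comm (by rw [← hx, pow_orderOf_eq_one]) hv hv1 hc)
  have hy : orderOf y = 3 := by rw [← Subgroup.orderOf_coe, ← hx, ← hg, order_conj]
  obtain ⟨⟨e⟩, ⟨e'⟩⟩ := exists_XX_equiv hg
  rcases I.ranks _ (LThreeMB.orderOf_pi h hy) with h1 | h1 | h1
  · exact Or.inr (char_congr e (hz y hy h1))
  · obtain ⟨x₀, u, g₀, hx₀, hfr₀, huz, hux, hne, hg₀⟩ := id hp
    obtain ⟨k, hk⟩ := conj_six h ht I.ranks I.six (fun x hx h2 => ⟨(good_of_inputs h I hx h2).simple,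
      (good_of_inputs h I hx h2).nc⟩) hx₀ hfr₀ huz hux hne hg₀ hy h1
    obtain ⟨⟨f⟩, -⟩ := exists_XX_equiv hk
    exact Or.inr (char_congr (f.symm.trans e) (hz x₀ hx₀ hfr₀))
  · have h2 := good_of_inputs h I hy h1
    refine Or.inl ⟨(MulEquiv.isSimpleGroup_congr e').1 h2.simple, fun h3 => h2.nc ?_⟩
    refine eq_top_iff.2 fun a _ => mem_center_iff.2 fun b => e'.injective ?_
    rw [map_mul, map_mul]
    exact mem_center_iff.1 (h3 ▸ mem_top (e' a)) (e' b)

/-- an element `x` of order 3 with `C(x) / ⟨x⟩ ≅ Fi24'` -/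
theorem exists_fi : ∃ x : ↥InstData.M.G, orderOf x = 3 ∧ Spor.IsoFi24' (XX x) := by
  have hfin : Finite ↥InstData.M.G := Cfsg.Agent.MFive.Row.finite_model
  have hs : IsSimpleGroup ↥InstData.M.G := Cfsg.Agent.MFive.Row.simple_model
  have h := KChart.chart KDone.lft Cfsg.Agent.MFive.Row.hc
  have I := LThreeMB.CoOneFin.coOne
  obtain ⟨s, hs, hfs, -, -⟩ := I.psu
  obtain ⟨x, hx, hxs⟩ := LThreeMB.KPair.exists_order_three h hs
  exact ⟨x, (Subgroup.orderOf_coe x).trans hx, (H411.MThree.iso_of_rank h I hx).2 (by rw [hxs]; exact hfs)⟩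

theorem m3_model : NoSit 3 ↥InstData.M.G := by
  have h3 : Fact (Nat.Prime 3) := ⟨Nat.prime_three⟩
  have h2 : Fact (Nat.Prime 2) := ⟨Nat.prime_two⟩
  have hfin : Finite ↥InstData.M.G := Cfsg.Agent.MFive.Row.finite_model
  intro D hD
  have key : ∃ x ∈ D, orderOf x = 3 ∧ ∃ v : ↥InstData.M.G, v * v = 1 ∧ v ≠ 1 ∧ x * v = v * x := by
    rcases hD.tri with ⟨L, hL⟩ | hT
    · obtain ⟨x, hx, hxp, -⟩ := exists_fix hD.loc.pgrp hD.loc.pgrp hD.loc.rk.ne_bot le_normalizer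
      obtain ⟨t, T, ht, -, -, -, -, -, -, hDt⟩ := comp_exists_inv hL
      exact ⟨x, hx, hxp, t, by rw [← pow_two, ← ht, pow_orderOf_eq_one], ne_one_of_order ht, (mem_C1.1 (hDt hx)).symm⟩
    · obtain ⟨P, x, -, -, hx, hxp, hP⟩ := central_of_caseI hD.loc hT.1
      obtain ⟨y, hy, hF⟩ := exists_fi
      exact ⟨x, hx, hxp, pc_inv hy hF P hP⟩
  obtain ⟨x, hx, hxp, v, hv, hv1, hc⟩ := key
  rcases m3_cases hxp hv hv1 hc with ⟨h4, h5⟩ | h4
  · exact false_of_XX hD.loc hx hxp h4 (not_comm_of_center h5)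
  · exact hD.not_char hx (ne_one_of_order hxp) h4

/-- **The row `M`, `p = 3`.** -/
theorem m_3 : Row.{u} 3 (fun S _ => Spor.IsoM S) := by
  intro G _ _ h
  obtain ⟨e⟩ := h
  obtain ⟨f⟩ := Cfsg.Agent.MonsterP.Equiv.equiv
  exact NoSit.congr (e.trans f) m3_model

end Cfsg.Agent.TID.SO.E
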