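import Cfsg.Agent.TID.SO.E.BThree
import Cfsg.Agent.TID.SO.E.BFive
import Cfsg.Agent.TID.SO.E.MThree
import Cfsg.Agent.TID.SO.E.MFive
import Cfsg.Agent.TID.SO.E.MSeven
import Cfsg.Agent.TID.SO.E.MThirteen

/-!
# The rows `B`, `M` of `KSporOdd` (helper5, project TID): `b_3 b_5 m_3 m_5 m_7 m_13`
-/
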